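import Cfsg.Agent.H129.TorusChar

/-!
# S3509, R2 (b): torus elements with a given Levi set of roots (helper115)

`lam : (Fin l → ℤ) →+ ℤ` a functional on the root lattice, `Ψ = {a root | lam a = 0}`.

* `exists_lam` : a finite intersection of sets `{a | f a = 0}` is of this form;
* `eq_one_of_lam` : `w ∈ W`, `lam ∘ w = lam`, `w Ψ⁺ ≥ 0`: `w = 1`;
* `exists_lev` : `t ∈ TT` of order prime to `r` with `Sx t = Ψ`, `C_W(t) = C_W(lam)`, `PP t = 1`.
-/

set_option autoImplicit false
set_option linter.unusedSectionVars false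

namespace Cfsg.Agent.H115.R2

open CoxeterSystem Cfsg Cfsg.Lie Cfsg.Lie.ChevalleyDatum
open Cfsg.Agent.ChevalleyStructure Cfsg.Agent.ChevalleyStructure.Elts Cfsg.Agent.ChevalleyStructure.CoxeterGeom
  Cfsg.Agent.ChevalleyStructure.CoxeterGeomTypes Cfsg.Agent.ChevalleyStructure.NPerm
open Cfsg.Agent.Tits.Roots Cfsg.Agent.Tits.Core Cfsg.Agent.Nodes Cfsg.Agent.Nodes.Reps Cfsg.Agent.Nodes.BNOf
  Cfsg.Agent.Nodes.RGDChev Cfsg.Agent.Nodes.Bruhat
open Cfsg.Agent.KFacts.RgdField Cfsg.Agent.KFacts.RgdChevCoord Cfsg.Agent.BpExc.TorCent Cfsg.Agent.BpExc.TorChev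
open Cfsg.Agent.GpExc.Field Cfsg.Agent.BpExc.Tow Cfsg.Agent.BpExc.TowChev Cfsg.Agent.BpExc.Fr
  Cfsg.Agent.BpExc.LangFr Cfsg.Agent.LangThm Cfsg.Agent.BpExc
open Cfsg.Agent.H129.TorusChar

universe u

section Abs

variable {I W : Type*} [Fintype I] [DecidableEq I] [Group W] [Finite W] {M : CoxeterMatrix I}
  {cs : CoxeterSystem M W} {A : I → I → ℤ} {h : IsCartan M A}

/-- the values of a functional on the roots are bounded -/
theorem exists_bound (lam : (I → ℤ) →+ ℤ) : ∃ C : ℕ, ∀ a, IsRoot cs h a → (lam a).natAbs ≤ C := by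
  classical
  have hfin := RGD.finite_roots (cs := cs) (h := h)
  refine ⟨∑ x ∈ hfin.toFinset, (lam x).natAbs, fun a ha => ?_⟩
  exact Finset.single_le_sum (f := fun x => (lam x).natAbs) (fun _ _ => Nat.zero_le _) (hfin.mem_toFinset.2 ha)

/-- **Finite intersections.** -/
theorem exists_lam (L : List ((I → ℤ) →+ ℤ)) : ∃ lam : (I → ℤ) →+ ℤ,
    (∀ a, IsRoot cs h a → (lam a = 0 ↔ ∀ f ∈ L, f a = 0)) ∧
      ∀ g : (I → ℤ) →+ (I → ℤ), (∀ f ∈ L, ∀ x, f (g x) = f x) → ∀ x, lam (g x) = lam x := by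
  induction L with
  | nil =>
    exact ⟨0, fun a _ => ⟨fun _ f hf => absurd hf List.not_mem_nil, fun _ => rfl⟩, fun _ _ _ => rfl⟩
  | cons f L ih =>
    obtain ⟨lam, h1, h2⟩ := ih
    obtain ⟨C, hC⟩ := exists_bound (cs := cs) (h := h) f
    refine ⟨f + (C + 1) • lam, fun a ha => ?_, fun g hg x => ?_⟩
    · have e : (f + (C + 1) • lam) a = f a + (C + 1 : ℕ) * lam a := by
        rw [AddMonoidHom.add_apply, AddMonoidHom.nsmul_apply, nsmul_eq_mul]
      rw [e]
      constructor
      · intro h3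
        have h4 : lam a = 0 := by
          by_contra hne
          have h5 : (C + 1 : ℕ) * 1 ≤ (C + 1) * (lam a).natAbs :=
            Nat.mul_le_mul_left _ (Int.natAbs_pos.2 hne)
          have h6 : ((C + 1 : ℕ) * lam a).natAbs = (f a).natAbs := by
            have : ((C + 1 : ℕ) : ℤ) * lam a = -f a := by omega
            rw [this, Int.natAbs_neg]
          rw [Int.natAbs_mul, Int.natAbs_natCast] at h6
          have h7 := hC a ha
          omega
        rw [h4, mul_zero, add_zero] at h3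
        intro f' hf'
        rcases List.mem_cons.1 hf' with rfl | hf'
        · exact h3
        · exact (h1 a ha).1 h4 f' hf'
      · intro h3
        rw [h3 f List.mem_cons_self, (h1 a ha).2 fun f' hf' => h3 f' (List.mem_cons_of_mem _ hf'), mul_zero, add_zero]
    · rw [AddMonoidHom.add_apply, AddMonoidHom.nsmul_apply, AddMonoidHom.add_apply, AddMonoidHom.nsmul_apply,
        hg f List.mem_cons_self, h2 g (fun f' hf' => hg f' (List.mem_cons_of_mem _ hf'))]

/-- a functional with equal values on the roots -/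
theorem lam_ext {f g : (I → ℤ) →+ ℤ} (hfg : ∀ a, IsRoot cs h a → f a = g a) (x : I → ℤ) : f x = g x := by
  have h4 : x = ∑ k, x k • (sr k : I → ℤ) := by
    funext j
    rw [Finset.sum_apply]
    simp only [Pi.smul_apply, smul_eq_mul]
    rw [Finset.sum_eq_single j]
    · rw [sr_self, mul_one]
    · intro k _ hk
      rw [sr_ne (Ne.symm hk), mul_zero]
    · intro hj
      exact absurd (Finset.mem_univ j) hj
  rw [h4, map_sum, map_sum]
  exact Finset.sum_congr rfl fun k _ => by rw [map_zsmul, map_zsmul, hfg _ (isRoot_sr cs h k)]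

/-- **`C_W(lam)` acts regularly on the positive systems of `Ψ`.** -/
theorem eq_one_of_lam {lam : (I → ℤ) →+ ℤ} {w : W} (hl : ∀ a, IsRoot cs h a → lam (rep cs h w a) = lam a)
    (hpos : ∀ a, IsRoot cs h a → lam a = 0 → 0 ≤ a → 0 ≤ rep cs h w a) : w = 1 := by
  by_contra hne
  obtain ⟨a, ha, hsum⟩ := Fix.exists_root_sum_eq_zero (cs := cs) (h := h) hne (orderOf_pos w) (pow_orderOf_eq_one w)
  have hlam : ∀ (i : ℕ) (b : I → ℤ), IsRoot cs h b → lam (rep cs h (w ^ i) b) = lam b := by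
    intro i
    induction i with
    | zero => intro b _; rw [pow_zero, map_one, Module.End.one_apply]
    | succ i ih => intro b hb; rw [pow_succ', rep_mul_apply, hl _ (hb.act _), ih b hb]
  have h0 : lam a = 0 := by
    have h1 := congrArg lam hsum
    rw [map_sum, map_zero, Finset.sum_congr rfl fun i _ => hlam i a ha, Finset.sum_const, Finset.card_range,
      nsmul_eq_mul] at h1
    rcases mul_eq_zero.1 h1 with h2 | h2
    · have := orderOf_pos w
      have h3 : orderOf w = 0 := by exact_mod_cast h2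
      omega
    · exact h2
  have hp : ∀ (i : ℕ) (b : I → ℤ), IsRoot cs h b → lam b = 0 → 0 ≤ b → 0 ≤ rep cs h (w ^ i) b := by
    intro i
    induction i with
    | zero => intro b _ _ hb; rwa [pow_zero, map_one, Module.End.one_apply]
    | succ i ih =>
      intro b hb hb0 hb1
      rw [pow_succ', rep_mul_apply]
      exact hpos _ (hb.act _) (by rw [hlam i b hb, hb0]) (ih b hb hb0 hb1)
  have key : ∀ b : I → ℤ, IsRoot cs h b → lam b = 0 → 0 ≤ b →
      ∑ i ∈ Finset.range (orderOf w), rep cs h (w ^ i) b ≠ 0 := by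
    intro b hb hb0 hb1 hs
    have h1 : b ≤ 0 := by
      have h2 : rep cs h (w ^ 0) b ≤ ∑ i ∈ Finset.range (orderOf w), rep cs h (w ^ i) b :=
        Finset.single_le_sum (f := fun i => rep cs h (w ^ i) b) (fun i _ => hp i b hb hb0 hb1)
          (Finset.mem_range.2 (orderOf_pos w))
      rw [pow_zero, map_one, Module.End.one_apply, hs] at h2
      exact h2
    exact hb.not_pos_neg hb1 h1
  rcases ha.pos_or_neg with h1 | h1
  · exact key a ha h0 h1 hsum
  · refine key (-a) ha.neg (by rw [map_neg, h0, neg_zero]) (neg_nonneg.2 h1) ?_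
    rw [Finset.sum_congr rfl fun i _ => map_neg (rep cs h (w ^ i)) a, Finset.sum_neg_distrib, hsum, neg_zero]

end Abs

/-! ### the torus element -/

variable {D : ChevalleyDatum} {l : ℕ} {M : CoxeterMatrix (Fin l)} (hp : IsType D l M) {k : Type u} [Field k]
  [IsAlgClosed k] {W : Type*} [Group W] [Finite W] (cs : CoxeterSystem M W) (r : ℕ) [Fact r.Prime] [CharP k r]

include r in
/-- a primitive root of unity -/
theorem exists_prim {N : ℕ} (hN : N ≠ 0) (hNr : N.Coprime r) : ∃ ζ : k, IsPrimitiveRoot ζ N := by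
  have : NeZero (N : k) := ⟨by
    intro h0
    have h1 : r ∣ N := (CharP.cast_eq_zero_iff k r N).1 h0
    have h2 := Nat.dvd_gcd h1 dvd_rfl
    rw [hNr] at h2
    exact (Fact.out : r.Prime).one_lt.ne' (Nat.dvd_one.1 h2)⟩
  have : NeZero N := ⟨hN⟩
  exact HasEnoughRootsOfUnity.exists_primitiveRoot k N

/-- **R2 (b).** -/
theorem exists_lev {d : ℕ} {B : Fin l → Fin l → ℤ} (hB : InvC D l d B) (hd : d ≠ 0) (lam : (Fin l → ℤ) →+ ℤ) :
    ∃ t ∈ TT D k, (∃ N : ℕ, N ≠ 0 ∧ N.Coprime r ∧ t ^ N = 1) ∧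
      Sx cs hp.isCartan (ch hp) t = {a | IsRoot cs hp.isCartan a ∧ lam a = 0} ∧
      (∀ a b, IsRoot cs hp.isCartan a → IsRoot cs hp.isCartan b → (ch hp a t = ch hp b t ↔ lam a = lam b)) ∧
      (∀ w : W, (∀ a, IsRoot cs hp.isCartan a → ch hp (rep cs hp.isCartan w a) t = ch hp a t) ↔
        ∀ x, lam (rep cs hp.isCartan w x) = lam x) ∧
      PP cs hp.isCartan (ch hp) t = ⊥ := by
  obtain ⟨C, hC⟩ := exists_bound (cs := cs) (h := hp.isCartan) lam
  set N : ℕ := r * (2 * C + 1) + 1 with hN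
  have hN0 : N ≠ 0 := by omega
  have hNr : N.Coprime r := by
    rw [hN, Nat.coprime_comm]
    exact (Nat.coprime_mul_left_add_right r 1 (2 * C + 1)).2 (Nat.coprime_one_right r)
  have hNC : 2 * C < N := by
    have := (Fact.out : r.Prime).two_le
    nlinarith
  obtain ⟨ζ, hζ⟩ := exists_prim (k := k) r hN0 hNr
  have hζ0 : ζ ≠ 0 := hζ.ne_zero hN0
  have hφ : IsMC fun x : Fin l → ℤ => ζ ^ lam x :=
    ⟨by simp, fun x y => by rw [map_add, zpow_add₀ hζ0]⟩
  obtain ⟨t, ht, hct⟩ := exists_cX hp hB hd hφ fun i => IsAlgClosed.exists_pow_nat_eq _ (Nat.pos_of_ne_zero hd)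
  have hch : ∀ a, IsRoot cs hp.isCartan a → ch hp a t = ζ ^ lam a := fun a ha => by
    rw [← cX_root hp cs ht ha, hct]
  -- equality of the values
  have heq : ∀ a b, IsRoot cs hp.isCartan a → IsRoot cs hp.isCartan b → (ch hp a t = ch hp b t ↔ lam a = lam b) := by
    intro a b ha hb
    rw [hch a ha, hch b hb]
    constructor
    · intro h1
      have h2 : ζ ^ (lam a - lam b) = 1 := by
        rw [zpow_sub₀ hζ0, h1, div_self (zpow_ne_zero _ hζ0)]
      have h3 := (hζ.zpow_eq_one_iff_dvd _).1 h2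
      have h4 := hC a ha
      have h5 := hC b hb
      by_contra hne
      have h6 : (lam a - lam b).natAbs < N := by omega
      have h7 := Int.natAbs_dvd_natAbs.2 h3
      rw [Int.natAbs_natCast] at h7
      have h8 := Nat.eq_zero_of_dvd_of_lt h7 h6
      have h9 := Int.natAbs_eq_zero.1 h8
      exact hne (by omega)
    · intro h1
      rw [h1]
  have hone : ∀ a, IsRoot cs hp.isCartan a → (ch hp a t = 1 ↔ lam a = 0) := by
    intro a ha
    rw [hch a ha]
    constructor
    · intro h1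
      have h3 := (hζ.zpow_eq_one_iff_dvd _).1 h1
      have h4 := hC a ha
      have h7 := Int.natAbs_dvd_natAbs.2 h3
      rw [Int.natAbs_natCast] at h7
      exact Int.natAbs_eq_zero.1 (Nat.eq_zero_of_dvd_of_lt h7 (by omega))
    · intro h1
      rw [h1, zpow_zero]
  have hSx : Sx cs hp.isCartan (ch hp) t = {a | IsRoot cs hp.isCartan a ∧ lam a = 0} := by
    ext a
    exact and_congr_right fun ha => hone a ha
  refine ⟨t, ht, ⟨N, hN0, hNr, ?_⟩, hSx, heq, fun w => ⟨fun h1 x => ?_, fun h1 a ha => ?_⟩, ?_⟩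
  · refine cX_inj hp (pow_mem ht N) (one_mem _) fun i => ?_
    rw [cX_pow hp ht, cX_one, hct, ← zpow_natCast, ← zpow_mul, mul_comm, zpow_mul, zpow_natCast, hζ.pow_eq_one, one_zpow]
  · exact lam_ext (cs := cs) (h := hp.isCartan) (f := lam.comp (rep cs hp.isCartan w).toAddMonoidHom) (g := lam)
      (fun a ha => (heq _ _ (ha.act w) ha).1 (h1 a ha)) x
  · exact (heq _ _ (ha.act w) ha).2 (h1 a)
  · rw [eq_bot_iff]
    intro w hw
    rw [Subgroup.mem_bot]
    obtain ⟨h1, h2⟩ := mem_PP.1 hw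
    refine eq_one_of_lam (cs := cs) (h := hp.isCartan) (lam := lam)
      (fun a ha => (heq _ _ (ha.act w) ha).1 (h1 a ha)) fun a ha h3 h4 => h2 a ?_ h4
    rw [hSx]
    exact ⟨ha, h3⟩

end Cfsg.Agent.H115.R2
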